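import Groth.Agent.CIntPres.Basic
import Groth.Agent.S5758
import Groth.Agent.RegLoc.Completion
import Groth.Agent.Depth.CM
import Groth.Prelude.Def_Pi1

/-! Geometric depth versus dimension. -/

universe u

open IsLocalRing RingTheory.Sequence

namespace Groth.Agent.CIntPres

variable (A : Type u) [CommRing A] [IsLocalRing A] [IsNoetherianRing A]

theorem isLocalRing_adicCompletion : IsLocalRing (AdicCompletion (maximalIdeal A) A) := inferInstance

variable (d : ℕ) (hd : ringKrullDim A = (d : WithBot ℕ∞))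

include hd in
theorem key_le (B : Type u) [CommRing B] [IsRegularLocalRing B] (I : Ideal B)
    (eqv : AdicCompletion (maximalIdeal A) A ≃+* B ⧸ I) (e : ℕ) (he : ringKrullDim B = (e : WithBot ℕ∞)) :
    (e : ℤ) - (I.spanFinrank : ℤ) ≤ d ∧
      ((e : ℤ) - (I.spanFinrank : ℤ) = d → Pi1.IsCompleteIntersection A) := by
  classical
  have hdim : ringKrullDim (B ⧸ I) = (d : WithBot ℕ∞) := by
    rw [← ringKrullDim_eq_of_ringEquiv eqv, RegLoc.Completion.ringKrullDim_completion, hd]
  have hI : I ≤ maximalIdeal B := le_maximalIdeal fun h => by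
    haveI : Nontrivial (B ⧸ I) := eqv.toEquiv.symm.nontrivial
    exact (Ideal.Quotient.nontrivial_iff.1 this) h
  obtain ⟨s, hs, hsI⟩ := Submodule.FG.exists_span_finset_card_eq_spanFinrank (IsNoetherian.noetherian I)
  have hsI' : Ideal.span (s : Set B) = I := hsI
  have hsm : (s : Set B) ⊆ (Ring.jacobson B : Set B) := fun x hx => by
    rw [SetLike.mem_coe, IsLocalRing.ringJacobson_eq_maximalIdeal]
    exact hI (hsI' ▸ Ideal.subset_span hx)
  have h1 := ringKrullDim_le_ringKrullDim_quotient_add_card s hsm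
  rw [hsI', he, hdim, hs] at h1
  have h1' : e ≤ d + I.spanFinrank := by exact_mod_cast h1
  refine ⟨by omega, fun heq => ?_⟩
  have hlist : Ideal.ofList s.toList = I := by
    rw [← hsI', Ideal.ofList]; congr 1; ext x; simp
  have hmem : ∀ x ∈ s.toList, x ∈ maximalIdeal B := fun x hx => hI (hlist ▸ Ideal.subset_span hx)
  have hw : IsWeaklyRegular B s.toList := by
    haveI := Depth.isCohenMacaulayLocalRing_of_isRegularLocalRing (R := B)
    refine ((S5758.result B B LocCoh.IsCohenMacaulayLocalRing.supportDim_eq_depth s.toList hmem).1).2 ?_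
    rw [Module.supportDim_self_eq_ringKrullDim, Ideal.smul_eq_mul, Ideal.mul_top,
      Module.supportDim_quotient_eq_ringKrullDim, hlist, hdim, he, Finset.length_toList, hs]
    exact_mod_cast (by omega : d + I.spanFinrank = e)
  exact ⟨B, _, inferInstance, s.toList, hmem, .of_isWeaklyRegular_of_mem_maximalIdeal _ hmem hw,
    ⟨eqv.trans (Ideal.quotEquivOfEq hlist.symm)⟩⟩

include hd in
theorem eq_of_isRegular (B : Type u) [CommRing B] [IsRegularLocalRing B] (I : Ideal B)
    (eqv : AdicCompletion (maximalIdeal A) A ≃+* B ⧸ I) (e : ℕ) (he : ringKrullDim B = (e : WithBot ℕ∞))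
    (B' : Type u) [CommRing B'] [IsRegularLocalRing B'] (rs : List B')
    (hm : ∀ r ∈ rs, r ∈ maximalIdeal B') (hrs : IsRegular B' rs)
    (eqv' : AdicCompletion (maximalIdeal A) A ≃+* B' ⧸ Ideal.span {r | r ∈ rs}) :
    (e : ℤ) - (I.spanFinrank : ℤ) = d := by
  classical
  obtain ⟨e', he', -⟩ := RegLoc.exists_natCast_eq_ringKrullDim B'
  have hspan : (Ideal.span {r | r ∈ rs}).spanFinrank ≤ rs.length := by
    have : {r | r ∈ rs} = (rs.toFinset : Set B') := by ext; simp
    rw [this]
    exact (Submodule.spanFinrank_span_le_ncard_of_finite (Finset.finite_toSet _)).trans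
      ((Set.ncard_coe_finset _).le.trans rs.toFinset_card_le)
  haveI := Depth.isCohenMacaulayLocalRing_of_isRegularLocalRing (R := B')
  have h := ((S5758.result B' B' LocCoh.IsCohenMacaulayLocalRing.supportDim_eq_depth rs hm).1).1
    hrs.toIsWeaklyRegular
  rw [Module.supportDim_self_eq_ringKrullDim, Ideal.smul_eq_mul, Ideal.mul_top,
    Module.supportDim_quotient_eq_ringKrullDim, show Ideal.ofList rs = Ideal.span {r | r ∈ rs} from rfl,
    ← ringKrullDim_eq_of_ringEquiv eqv', RegLoc.Completion.ringKrullDim_completion, hd, he'] at h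
  have h' : d + rs.length = e' := by exact_mod_cast h
  obtain ⟨hle', -⟩ := key_le A d hd B' _ eqv' e' he'
  haveI := RegLoc.Completion.isNoetherianRing_adicCompletion' (maximalIdeal A)
  have hinv := dim_sub_spanFinrank_eq (A := AdicCompletion (maximalIdeal A) A)
    (eqv.symm.toRingHom.comp (Ideal.Quotient.mk I)) (eqv.symm.surjective.comp Ideal.Quotient.mk_surjective)
    (eqv'.symm.toRingHom.comp (Ideal.Quotient.mk _)) (eqv'.symm.surjective.comp Ideal.Quotient.mk_surjective)
    he he'
  rw [RingHom.ker_equiv_comp, RingHom.ker_equiv_comp, Ideal.mk_ker, Ideal.mk_ker] at hinv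
  omega

end Groth.Agent.CIntPres
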