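import Groth.Agent.CIntSeq.Basic
import Groth.Agent.RegLoc.Basic
import Mathlib.Algebra.Module.SpanRankOperations
import Mathlib.RingTheory.Length

/-! # Presentations of a local ring by regular local rings -/

set_option linter.style.haveILetI false

universe u v

namespace Groth.Agent.CIntPres

open IsLocalRing RingTheory.Sequence CIntSeq

theorem mem_trivRel_of_isWeaklyRegular {A : Type u} [CommRing A] {M : Type v} [AddCommGroup M] [Module A M] :
    ∀ {n : ℕ} (f : Fin n → A), IsWeaklyRegular M (List.ofFn f) →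
      ∀ m : Fin n → M, ∑ i, f i • m i = 0 → m ∈ trivRel f M := by
  intro n
  induction n with
  | zero => intro f _ m _; rw [Subsingleton.elim m 0]; exact zero_mem _
  | succ n ih =>
    intro f hf m hm
    classical
    rw [isWeaklyRegular_ofFn_succ] at hf
    rw [Fin.sum_univ_castSucc] at hm
    obtain ⟨w, hw⟩ := (mem_span_range_smul_top _ _).1 (hf.2 (m (Fin.last n)) (by
      rw [eq_neg_of_add_eq_zero_right hm]
      exact neg_mem ((mem_span_range_smul_top _ _).2 ⟨fun k => m k.castSucc, rfl⟩)))
    simp only [Function.comp_apply] at hw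
    let e : (Fin n → M) →ₗ[A] (Fin (n + 1) → M) :=
      { toFun := fun z => Fin.snoc z 0
        map_add' := fun a b => by
          funext k; exact Fin.lastCases (by simp) (fun k => by simp) k
        map_smul' := fun c a => by
          funext k; exact Fin.lastCases (by simp) (fun k => by simp) k }
    have hesingle : ∀ (k : Fin n) (z : M), e (Pi.single k z) = Pi.single k.castSucc z := by
      intro k z
      funext j
      refine Fin.lastCases ?_ (fun j => ?_) j
      · simp [e, Pi.single_apply, (Fin.castSucc_lt_last k).ne']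
      · simp [e, Pi.single_apply, Fin.castSucc_inj]
    have hz : ∑ k, f (Fin.castSucc k) • (m k.castSucc + f (Fin.last n) • w k) = 0 := by
      simp only [smul_add, Finset.sum_add_distrib, smul_comm _ (f (Fin.last n)), ← Finset.smul_sum, hw]
      exact hm
    have hle : ∀ z ∈ trivRel (f ∘ Fin.castSucc) M, e z ∈ trivRel f M := by
      intro z hz
      induction hz using Submodule.span_induction with
      | mem z hz =>
        obtain ⟨i, j, x, rfl⟩ := hz
        rw [map_sub, map_smul, map_smul, hesingle, hesingle]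
        exact Submodule.subset_span ⟨i.castSucc, j.castSucc, x, rfl⟩
      | zero => simp
      | add a b _ _ ha hb => rw [map_add]; exact add_mem ha hb
      | smul c a _ ha => rw [map_smul]; exact Submodule.smul_mem _ _ ha
    have hdec : m = e (fun k => m k.castSucc + f (Fin.last n) • w k) -
        ∑ k, (f (Fin.last n) • (Pi.single k.castSucc (w k) : Fin (n + 1) → M) -
          f k.castSucc • (Pi.single (Fin.last n) (w k) : Fin (n + 1) → M)) := by
      funext j
      refine Fin.lastCases ?_ (fun j => ?_) j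
      · simp [e, Finset.sum_apply, Pi.single_apply, Finset.sum_sub_distrib, hw,
          fun k : Fin n => (Fin.castSucc_lt_last k).ne']
      · simp [e, Finset.sum_apply, Pi.single_apply, Finset.sum_sub_distrib, Fin.castSucc_inj,
          (Fin.castSucc_lt_last j).ne]
    rw [hdec]
    exact sub_mem (hle _ (ih _ hf.1 _ hz)) (Submodule.sum_mem _ fun k _ =>
      Submodule.subset_span ⟨k.castSucc, Fin.last n, w k, rfl⟩)

variable {R : Type u} [CommRing R]

theorem spanFinrank_eq_length [IsLocalRing R] {M : Type u} [AddCommGroup M] [Module R M]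
    (N : Submodule R M) (hN : N.FG) :
    (N.spanFinrank : ℕ∞) = Module.length R (N ⧸ maximalIdeal R • (⊤ : Submodule R N)) := by
  letI : Field (R ⧸ maximalIdeal R) := Ideal.Quotient.field _
  letI : Module (R ⧸ maximalIdeal R) (N ⧸ maximalIdeal R • (⊤ : Submodule R N)) :=
    Module.instQuotientIdealSubmoduleHSMulTop N (maximalIdeal R)
  haveI : IsScalarTower R (R ⧸ maximalIdeal R) (N ⧸ maximalIdeal R • (⊤ : Submodule R N)) :=
    inferInstance
  haveI : Module.Finite R N := Module.Finite.iff_fg.mpr hN
  haveI : Module.Finite (R ⧸ maximalIdeal R) (N ⧸ maximalIdeal R • (⊤ : Submodule R N)) :=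
    Module.Finite.of_restrictScalars_finite R _ _
  rw [IsLocalRing.spanFinrank_eq_finrank_quotient N hN,
    Module.length_eq_of_surjective (R := R ⧸ maximalIdeal R) (S := R) Ideal.Quotient.mk_surjective,
    Module.length_eq_finrank]

/-- Cutting a presentation by an element of the kernel outside `m²` drops the number of generators by one. -/
theorem spanFinrank_map_add_one [IsLocalRing R] [IsNoetherianRing R] {I : Ideal R} (hI : I ≤ maximalIdeal R)
    {x : R} (hx : x ∈ I) (hx2 : x ∉ maximalIdeal R ^ 2) [IsLocalRing (R ⧸ Ideal.span {x})] :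
    (I.map (Ideal.Quotient.mk (Ideal.span {x}))).spanFinrank + 1 = I.spanFinrank := by
  let π := Ideal.Quotient.mk (Ideal.span {x})
  let Ib : Ideal (R ⧸ Ideal.span {x}) := I.map π
  let J : Submodule R Ib := maximalIdeal R • ⊤
  let ψ : I →ₗ[R] Ib :=
    { toFun := fun a => ⟨π a, Ideal.mem_map_of_mem _ a.2⟩
      map_add' := fun a b => Subtype.ext (map_add π _ _)
      map_smul' := fun c a => Subtype.ext (by
        show π (c * a) = c • π a
        rw [map_mul]; rfl) }
  have hψ : Function.Surjective ψ := fun b => by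
    obtain ⟨a, ha, hab⟩ := (Ideal.mem_map_iff_of_surjective π Ideal.Quotient.mk_surjective).1 b.2
    exact ⟨⟨a, ha⟩, Subtype.ext hab⟩
  let g : (I ⧸ maximalIdeal R • (⊤ : Submodule R I)) →ₗ[R] (Ib ⧸ J) :=
    Submodule.mapQ _ _ ψ (Submodule.smul_top_le_comap_smul_top _ ψ)
  have hg : Function.Surjective g := fun q => by
    obtain ⟨b, rfl⟩ := Submodule.Quotient.mk_surjective _ q
    obtain ⟨a, rfl⟩ := hψ b
    exact ⟨Submodule.Quotient.mk a, rfl⟩
  let h : (R ⧸ maximalIdeal R) →ₗ[R] (I ⧸ maximalIdeal R • (⊤ : Submodule R I)) :=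
    Submodule.liftQ _ (LinearMap.toSpanSingleton R _ (Submodule.Quotient.mk ⟨x, hx⟩)) (fun c hc => by
      rw [LinearMap.mem_ker, LinearMap.toSpanSingleton_apply, ← Submodule.Quotient.mk_smul,
        Submodule.Quotient.mk_eq_zero]
      exact Submodule.smul_mem_smul hc trivial)
  have hsq : ∀ a : I, a ∈ maximalIdeal R • (⊤ : Submodule R I) → (a : R) ∈ maximalIdeal R ^ 2 := by
    intro a ha
    refine Submodule.smul_induction_on ha (fun r hr w _ => ?_) (fun a b ha hb => add_mem ha hb)
    rw [pow_two]
    exact Ideal.mul_mem_mul hr (hI w.2)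
  have hh : Function.Injective h := by
    rw [injective_iff_map_eq_zero]
    intro q hq
    obtain ⟨c, rfl⟩ := Submodule.Quotient.mk_surjective _ q
    rw [Submodule.Quotient.mk_eq_zero]
    by_contra hc
    have h1 := hsq _ ((Submodule.Quotient.mk_eq_zero _).1 hq)
    have hcu : IsUnit c := notMem_maximalIdeal.1 hc
    exact hx2 ((Ideal.unit_mul_mem_iff_mem _ hcu).1 h1)
  have hex : Function.Exact h g := by
    intro q
    obtain ⟨a, rfl⟩ := Submodule.Quotient.mk_surjective _ q
    constructor
    · intro ha
      have hker : ψ a ∈ Submodule.map ψ (maximalIdeal R • (⊤ : Submodule R I)) := by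
        rw [Submodule.map_smul'', Submodule.map_top, LinearMap.range_eq_top.2 hψ]
        exact (Submodule.Quotient.mk_eq_zero _).1 ha
      obtain ⟨b, hb, hba⟩ := hker
      have : (a : R) - b ∈ Ideal.span {x} := by
        rw [← Ideal.Quotient.eq]; exact (congrArg Subtype.val hba).symm
      obtain ⟨c, hc⟩ := Ideal.mem_span_singleton'.1 this
      refine ⟨Ideal.Quotient.mk _ c, ?_⟩
      show h (Submodule.Quotient.mk c) = _
      rw [Submodule.liftQ_apply, LinearMap.toSpanSingleton_apply, ← Submodule.Quotient.mk_smul,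
        Submodule.Quotient.eq]
      have : c • (⟨x, hx⟩ : I) - a = -b := Subtype.ext (by
        show c * x - (a : R) = -(b : R)
        rw [hc]; ring)
      rw [this]
      exact neg_mem hb
    · rintro ⟨r, hr⟩
      obtain ⟨c, rfl⟩ := Submodule.Quotient.mk_surjective _ r
      rw [← hr, Submodule.liftQ_apply, LinearMap.toSpanSingleton_apply, ← Submodule.Quotient.mk_smul]
      show Submodule.Quotient.mk (ψ (c • (⟨x, hx⟩ : I))) = 0
      have h0 : ψ ⟨x, hx⟩ = 0 := Subtype.ext
        (Ideal.Quotient.eq_zero_iff_mem.2 (Ideal.mem_span_singleton_self x))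
      rw [map_smul, h0, smul_zero, Submodule.Quotient.mk_zero]
  haveI : IsSimpleModule R (R ⧸ maximalIdeal R) :=
    isSimpleModule_iff_isCoatom.2 (Ideal.isMaximal_def.1 (maximalIdeal.isMaximal R))
  have hlen := Module.length_eq_add_of_exact h g hh hg hex
  rw [Module.length_eq_one R (R ⧸ maximalIdeal R), ← spanFinrank_eq_length I (IsNoetherian.noetherian I)] at hlen
  have hb : Module.length R (Ib ⧸ J) = (Ib.spanFinrank : ℕ∞) := by
    have hmax : maximalIdeal (R ⧸ Ideal.span {x}) = (maximalIdeal R).map π :=
      RegLoc.maximalIdeal_quotient_eq_map _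
    have heq : J = (maximalIdeal (R ⧸ Ideal.span {x}) • (⊤ : Submodule (R ⧸ Ideal.span {x}) Ib)).restrictScalars R := by
      rw [hmax]
      show J = (((maximalIdeal R).map (algebraMap R (R ⧸ Ideal.span {x}))) • (⊤ : Submodule (R ⧸ Ideal.span {x}) Ib)).restrictScalars R
      rw [Ideal.smul_restrictScalars, Submodule.restrictScalars_top]
    rw [spanFinrank_eq_length Ib (IsNoetherian.noetherian Ib),
      ← Module.length_eq_of_surjective (R := R ⧸ Ideal.span {x}) (S := R) Ideal.Quotient.mk_surjective]
    exact ((Submodule.quotEquivOfEq _ _ heq).trans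
      (Submodule.Quotient.restrictScalarsEquiv R _)).length_eq
  rw [hb] at hlen
  have : I.spanFinrank = 1 + Ib.spanFinrank := by exact_mod_cast hlen
  show Ib.spanFinrank + 1 = _
  omega

section Minimal

variable {A : Type u} [CommRing A] [IsLocalRing A]

/-- Relations modulo trivial relations. -/
abbrev H1 {d : ℕ} (y : Fin d → A) : Type u :=
  LinearMap.ker (∑ k, y k • (LinearMap.proj k : (Fin d → A) →ₗ[A] A)) ⧸
    (trivRel y A).submoduleOf (LinearMap.ker (∑ k, y k • (LinearMap.proj k : (Fin d → A) →ₗ[A] A)))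

variable [IsRegularLocalRing R]

theorem spanFinrank_maximalIdeal_eq_of_minimal (f : R →+* A) (hf : Function.Surjective f)
    (hker : RingHom.ker f ≤ maximalIdeal R ^ 2) {d : ℕ} (hd : ringKrullDim R = d) [IsNoetherianRing A] :
    (maximalIdeal A).spanFinrank = d := by
  classical
  refine le_antisymm ?_ ?_
  · rw [← map_maximalIdeal_of_surjective f hf, ← RegLoc.spanFinrank_eq_dim hd]
    exact Ideal.spanFinrank_map_le_of_fg _ (IsNoetherian.noetherian _)
  · obtain ⟨s, hs, hs'⟩ := Submodule.FG.exists_span_finset_card_eq_spanFinrank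
      (IsNoetherian.noetherian (maximalIdeal A))
    rw [← RegLoc.spanFinrank_eq_dim hd, ← hs]
    choose g hg using hf
    have hm : (maximalIdeal R).map f = maximalIdeal A := map_maximalIdeal_of_surjective f (fun a => ⟨g a, hg a⟩)
    have hk1 : RingHom.ker f ≤ maximalIdeal R := hker.trans (Ideal.pow_le_self two_ne_zero)
    have h2 : maximalIdeal R = Ideal.span (s.image g : Set R) ⊔ RingHom.ker f := by
      have h1 : (maximalIdeal R).map f = (Ideal.span (s.image g : Set R)).map f := by
        rw [hm, Ideal.map_span, Finset.coe_image, ← Set.image_comp]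
        simpa [Function.comp_def, hg] using hs'.symm
      have h2 := congrArg (Ideal.comap f) h1
      simp only [Ideal.comap_map_of_surjective f (fun a => ⟨g a, hg a⟩), ← RingHom.ker_eq_comap_bot] at h2
      rwa [sup_eq_left.mpr hk1] at h2
    rw [← RegLoc.eq_maximalIdeal_of_le_sup_sq (J := Ideal.span (s.image g : Set R)) (h2 ▸ le_sup_left)
      (h2.le.trans (sup_le_sup_left hker _))]
    exact (Submodule.spanFinrank_span_le_ncard_of_finite (Finset.finite_toSet _)).trans
      ((Set.ncard_coe_finset _).le.trans Finset.card_image_le)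

theorem spanFinrank_ker_eq_length (f : R →+* A) (hf : Function.Surjective f)
    (hker : RingHom.ker f ≤ maximalIdeal R ^ 2) {d : ℕ} (hd : ringKrullDim R = d)
    (y : Fin d → A) (hy : Ideal.span (Set.range y) = maximalIdeal A) :
    ((RingHom.ker f).spanFinrank : ℕ∞) = Module.length A (H1 y) := by
  classical
  letI := f.toAlgebra
  choose x hx using fun k => hf (y k)
  let I := RingHom.ker f
  have hk1 : I ≤ maximalIdeal R := hker.trans (Ideal.pow_le_self two_ne_zero)
  have hspan : Ideal.span (Set.range x) = maximalIdeal R := by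
    have h1 : (maximalIdeal R).map f = (Ideal.span (Set.range x)).map f := by
      rw [map_maximalIdeal_of_surjective f hf, Ideal.map_span, ← Set.range_comp, ← hy]
      congr 2
      exact funext fun k => (hx k).symm
    have h2 := congrArg (Ideal.comap f) h1
    simp only [Ideal.comap_map_of_surjective f hf, ← RingHom.ker_eq_comap_bot] at h2
    rw [sup_eq_left.mpr hk1] at h2
    exact RegLoc.eq_maximalIdeal_of_le_sup_sq (h2 ▸ le_sup_left) (h2.le.trans (sup_le_sup_left hker _))
  have hreg := (RegLoc.isRegular_ofFn hd x hspan).toIsWeaklyRegular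
  let dot : (Fin d → R) →ₗ[R] R := ∑ k, x k • (LinearMap.proj k : (Fin d → R) →ₗ[R] R)
  have hdot : ∀ a, dot a = ∑ k, x k • a k := fun a => by simp [dot]
  let S : Submodule R (Fin d → R) := Submodule.comap dot I
  have hS : ∀ a : S, dot a.1 ∈ I := fun a => a.2
  let Φ : S →ₗ[R] (I ⧸ maximalIdeal R • (⊤ : Submodule R I)) :=
    Submodule.mkQ _ ∘ₗ (dot ∘ₗ S.subtype).codRestrict I hS
  let Z : Submodule A (Fin d → A) := LinearMap.ker (∑ k, y k • (LinearMap.proj k : (Fin d → A) →ₗ[A] A))
  have hmap : ∀ a : Fin d → R, ∑ k, y k • f (a k) = f (dot a) := fun a => by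
    rw [hdot, map_sum]; simp [hx]
  have hZ : ∀ a : S, (fun k => f (a.1 k)) ∈ Z := fun a => by
    rw [LinearMap.mem_ker, LinearMap.sum_apply]
    simpa [RingHom.mem_ker] using (hmap a.1).trans (RingHom.mem_ker.1 (hS a))
  let ψ : S →ₗ[R] Z :=
    { toFun := fun a => ⟨fun k => f (a.1 k), hZ a⟩
      map_add' := fun a b => Subtype.ext (funext fun k => map_add f _ _)
      map_smul' := fun c a => Subtype.ext (funext fun k => map_mul f _ _) }
  let Ψ : S →ₗ[R] H1 y := (((trivRel y A).submoduleOf Z).mkQ.restrictScalars R) ∘ₗ ψ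
  have hΦ : Function.Surjective Φ := by
    intro q
    obtain ⟨⟨a, ha⟩, rfl⟩ := Submodule.mkQ_surjective _ q
    obtain ⟨m, hm⟩ := (mem_span_range_smul_top (M := R) x a).1 (by
      rw [hspan, smul_eq_mul, Ideal.mul_top]; exact hk1 ha)
    refine ⟨⟨m, by show dot m ∈ I; rw [hdot, hm]; exact ha⟩, ?_⟩
    refine congrArg (Submodule.Quotient.mk (p := maximalIdeal R • (⊤ : Submodule R I))) (Subtype.ext ?_)
    exact (hdot m).trans hm
  have hΨ : Function.Surjective Ψ := by
    intro q
    obtain ⟨⟨a, ha⟩, rfl⟩ := Submodule.mkQ_surjective _ q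
    choose b hb using fun k => hf (a k)
    have hbS : dot b ∈ I := by
      rw [RingHom.mem_ker, ← hmap]
      simpa [Z, hb] using ha
    exact ⟨⟨b, hbS⟩, congrArg (Submodule.Quotient.mk (p := (trivRel y A).submoduleOf Z))
      (Subtype.ext (funext hb))⟩
  have hpush : ∀ b ∈ trivRel x R, (fun k => f (b k)) ∈ trivRel y A := by
    intro b hb
    induction hb using Submodule.span_induction with
    | mem b hb =>
      obtain ⟨i, j, z, rfl⟩ := hb
      refine Submodule.subset_span ⟨i, j, f z, funext fun k => ?_⟩
      simp [Pi.single_apply, apply_ite f, hx]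
    | zero =>
      convert zero_mem (trivRel y A) using 1
      funext k; simp
    | add a b _ _ ha hb =>
      convert add_mem ha hb using 1
      funext k; simp
    | smul c a _ ha =>
      convert Submodule.smul_mem _ (f c) ha using 1
      funext k; simp
  have hlift : ∀ z ∈ trivRel y A, ∃ b ∈ trivRel x R, (fun k => f (b k)) = z := by
    intro z hz
    induction hz using Submodule.span_induction with
    | mem z hz =>
      obtain ⟨i, j, w, rfl⟩ := hz
      obtain ⟨w, rfl⟩ := hf w
      refine ⟨_, Submodule.subset_span ⟨i, j, w, rfl⟩, funext fun k => ?_⟩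
      simp [Pi.single_apply, apply_ite f, hx]
    | zero => exact ⟨0, zero_mem _, funext fun k => by simp⟩
    | add a b _ _ ha hb =>
      obtain ⟨a', ha', rfl⟩ := ha
      obtain ⟨b', hb', rfl⟩ := hb
      exact ⟨a' + b', add_mem ha' hb', funext fun k => by simp⟩
    | smul c a _ ha =>
      obtain ⟨a', ha', rfl⟩ := ha
      obtain ⟨c, rfl⟩ := hf c
      exact ⟨c • a', Submodule.smul_mem _ _ ha', funext fun k => by simp⟩
  have hdot0 : ∀ b ∈ trivRel x R, dot b = 0 := by
    intro b hb
    induction hb using Submodule.span_induction with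
    | mem b hb =>
      obtain ⟨i, j, z, rfl⟩ := hb
      simp [hdot, Pi.single_apply, mul_sub, Finset.sum_sub_distrib]
      ring
    | zero => simp
    | add a b _ _ ha hb => simp [ha, hb]
    | smul c a _ ha => simp [ha]
  have hkereq : LinearMap.ker Φ = LinearMap.ker Ψ := by
    ext a
    rw [LinearMap.mem_ker, LinearMap.mem_ker]
    show Submodule.Quotient.mk _ = 0 ↔ Submodule.Quotient.mk _ = 0
    rw [Submodule.Quotient.mk_eq_zero, Submodule.Quotient.mk_eq_zero]
    show _ ↔ (fun k => f (a.1 k)) ∈ trivRel y A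
    constructor
    · intro ha
      rw [← hspan, mem_span_range_smul_top] at ha
      obtain ⟨c, hc⟩ := ha
      have hc' : ∑ k, x k • (c k : R) = dot a.1 := by
        have := congrArg (fun z : I => (z : R)) hc
        simpa using this
      have h := hpush _ (mem_trivRel_of_isWeaklyRegular x hreg (fun k => a.1 k - (c k : R)) (by
        simp only [smul_sub, Finset.sum_sub_distrib, hc', ← hdot, sub_self]))
      convert h using 1
      funext k
      rw [map_sub, RingHom.mem_ker.1 (c k).2, sub_zero]
    · intro ha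
      obtain ⟨b, hb, hab⟩ := hlift _ ha
      rw [← hspan, mem_span_range_smul_top]
      refine ⟨fun k => ⟨a.1 k - b k, by
        rw [RingHom.mem_ker, map_sub, sub_eq_zero]; exact (congrFun hab k).symm⟩, Subtype.ext ?_⟩
      show ((∑ k, x k • (⟨a.1 k - b k, _⟩ : I) : I) : R) = dot a.1
      simp only [Submodule.coe_sum, Submodule.coe_smul_of_tower]
      simp only [smul_sub, Finset.sum_sub_distrib, ← hdot, hdot0 b hb, sub_zero]
  rw [spanFinrank_eq_length _ (IsNoetherian.noetherian _),
    ← Module.length_eq_of_surjective (R := A) (S := R) hf]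
  exact ((Φ.quotKerEquivOfSurjective hΦ).symm.trans
    ((Submodule.quotEquivOfEq _ _ hkereq).trans (Ψ.quotKerEquivOfSurjective hΨ))).length_eq

end Minimal

/-- Reduce a presentation to one with kernel inside `m²`, keeping `d - q`. -/
theorem exists_minimal {A : Type u} [CommRing A] [IsLocalRing A] :
    ∀ (d : ℕ) (R : Type u) [CommRing R] [IsRegularLocalRing R] (f : R →+* A),
      Function.Surjective f → ringKrullDim R = d →
      ∃ (R₁ : Type u) (_ : CommRing R₁) (_ : IsRegularLocalRing R₁) (f₁ : R₁ →+* A) (d₁ : ℕ),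
        Function.Surjective f₁ ∧ ringKrullDim R₁ = d₁ ∧ RingHom.ker f₁ ≤ maximalIdeal R₁ ^ 2 ∧
        (d : ℤ) - (RingHom.ker f).spanFinrank = (d₁ : ℤ) - (RingHom.ker f₁).spanFinrank := by
  intro d
  induction d using Nat.strong_induction_on with
  | _ d ih =>
    intro R _ _ f hf hd
    by_cases hk : RingHom.ker f ≤ maximalIdeal R ^ 2
    · exact ⟨R, _, inferInstance, f, d, hf, hd, hk, rfl⟩
    obtain ⟨x, hxI, hx2⟩ := SetLike.not_le_iff_exists.1 hk
    have hI : RingHom.ker f ≤ maximalIdeal R := le_maximalIdeal (RingHom.ker_ne_top f)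
    obtain ⟨hreg, e, he, hed⟩ := RegLoc.isRegularLocalRing_quotient_span_singleton (hI hxI) hx2 hd
    have hle : Ideal.span {x} ≤ RingHom.ker f := by rwa [Ideal.span_singleton_le_iff_mem]
    let g : R ⧸ Ideal.span {x} →+* A := Ideal.Quotient.lift _ f fun a ha => hle ha
    have hg : Function.Surjective g := fun a => by
      obtain ⟨r, rfl⟩ := hf a
      exact ⟨Ideal.Quotient.mk _ r, rfl⟩
    obtain ⟨R₁, i₁, i₂, f₁, d₁, h1, h2, h3, h4⟩ := ih e (by omega) _ g hg he
    refine ⟨R₁, i₁, i₂, f₁, d₁, h1, h2, h3, ?_⟩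
    have hq : (RingHom.ker g).spanFinrank + 1 = (RingHom.ker f).spanFinrank := by
      rw [show RingHom.ker g = (RingHom.ker f).map (Ideal.Quotient.mk (Ideal.span {x})) from
        Ideal.ker_quotient_lift f _]
      exact spanFinrank_map_add_one hI hxI hx2
    omega

theorem dim_sub_spanFinrank_eq {A : Type u} [CommRing A] [IsLocalRing A] [IsNoetherianRing A]
    {R R' : Type u} [CommRing R] [CommRing R'] [IsRegularLocalRing R] [IsRegularLocalRing R']
    (f : R →+* A) (hf : Function.Surjective f) (f' : R' →+* A) (hf' : Function.Surjective f')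
    {d d' : ℕ} (hd : ringKrullDim R = d) (hd' : ringKrullDim R' = d') :
    (d : ℤ) - (RingHom.ker f).spanFinrank = (d' : ℤ) - (RingHom.ker f').spanFinrank := by
  obtain ⟨B, _, _, g, b, hg, hb, hgk, e⟩ := exists_minimal d R f hf hd
  obtain ⟨B', _, _, g', b', hg', hb', hgk', e'⟩ := exists_minimal d' R' f' hf' hd'
  rw [e, e']
  have hbA := spanFinrank_maximalIdeal_eq_of_minimal g hg hgk hb
  have hbA' := spanFinrank_maximalIdeal_eq_of_minimal g' hg' hgk' hb'
  obtain rfl : b = b' := hbA.symm.trans hbA'
  obtain ⟨s, hs, hs'⟩ := Submodule.FG.exists_span_finset_card_eq_spanFinrank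
    (IsNoetherian.noetherian (maximalIdeal A))
  let e₀ : Fin b ≃ s := (finCongr (hbA.symm.trans hs.symm)).trans s.equivFin.symm
  have hy : Ideal.span (Set.range fun k => ((e₀ k : s) : A)) = maximalIdeal A := by
    rw [show (Set.range fun k => ((e₀ k : s) : A)) = (s : Set A) from ?_]
    · exact hs'
    · rw [show (fun k => ((e₀ k : s) : A)) = Subtype.val ∘ e₀ from rfl, e₀.surjective.range_comp]
      exact Subtype.range_coe
  have h1 := spanFinrank_ker_eq_length g hg hgk hb _ hy
  rw [← spanFinrank_ker_eq_length g' hg' hgk' hb' _ hy] at h1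
  rw [show (RingHom.ker g).spanFinrank = (RingHom.ker g').spanFinrank by exact_mod_cast h1]

end Groth.Agent.CIntPres
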